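import Groth.Agent.KFlatLib.Scheme.Pullback
import Groth.Agent.FlatDvr.FibreStalk
import Groth.Prelude.Def_MoreMor
import Groth.Prelude.Def_FlatMod2

/-! Flatness on fibres, on stalks and on fibre schemes. -/

set_option autoImplicit false
set_option linter.style.haveILetI false
set_option backward.isDefEq.respectTransparency false
set_option backward.isDefEq.respectTransparency.types false

universe u

open CategoryTheory Limits AlgebraicGeometry IsLocalRing
open scoped TensorProduct

namespace Groth.Agent.RelFlat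

theorem flat_iff_of_ringEquiv {R R' N N' : Type u} [CommRing R] [CommRing R'] [AddCommGroup N] [Module R N]
    [AddCommGroup N'] [Module R' N'] (e : R ≃+* R') (θ : N ≃+ N') (h : ∀ r n, θ (r • n) = e r • θ n) :
    Module.Flat R N ↔ Module.Flat R' N' := by
  letI : Module R N' := Module.compHom N' e.toRingHom
  let L : N ≃ₗ[R] N' := { θ with map_smul' := h }
  refine ⟨fun _ => ?_, fun _ => ?_⟩
  · letI : Algebra R' R := e.symm.toRingHom.toAlgebra
    haveI : IsScalarTower R' R N' := IsScalarTower.of_algebraMap_smul fun r n => by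
      show e (e.symm r) • n = r • n
      rw [RingEquiv.apply_symm_apply]
    haveI : Module.Flat R' R := RingHom.Flat.of_bijective (f := e.symm.toRingHom) e.symm.bijective
    haveI : Module.Flat R N' := Module.Flat.of_linearEquiv L.symm
    exact Module.Flat.trans R' R N'
  · letI : Algebra R R' := e.toRingHom.toAlgebra
    haveI : IsScalarTower R R' N' := IsScalarTower.of_algebraMap_smul fun _ _ => rfl
    haveI : Module.Flat R R' := RingHom.Flat.of_bijective (f := e.toRingHom) e.bijective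
    haveI : Module.Flat R N' := Module.Flat.trans R R' N'
    exact Module.Flat.of_linearEquiv L

/-- Flatness of `M / IM` over `A / I` against flatness of `B' ⊗ M` over `A'`. -/
theorem flat_quot_iff {A A' B B' M : Type u} [CommRing A] [CommRing A'] [CommRing B] [CommRing B'] [Algebra A B]
    [Algebra B B'] (σ : A →+* A') (hσ : Function.Surjective σ) (I : Ideal A) (hI : RingHom.ker σ = I)
    (hB : Function.Surjective (algebraMap B B')) (hBI : RingHom.ker (algebraMap B B') = I.map (algebraMap A B))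
    (ρ : A' →+* B') (hc : ∀ a, ρ (σ a) = algebraMap B B' (algebraMap A B a))
    [AddCommGroup M] [Module B M] [Module A M] [IsScalarTower A B M] [Module A' (B' ⊗[B] M)]
    (hmod : ∀ (a : A') (z : B' ⊗[B] M), a • z = ρ a • z) :
    Module.Flat (A ⧸ I) (M ⧸ I • (⊤ : Submodule A M)) ↔ Module.Flat A' (B' ⊗[B] M) := by
  let e₁ : (B ⧸ RingHom.ker (Algebra.ofId B B')) ≃ₐ[B] B' := Ideal.quotientKerAlgEquivOfSurjective hB
  let E : (M ⧸ RingHom.ker (algebraMap B B') • (⊤ : Submodule B M)) ≃ₗ[B] B' ⊗[B] M :=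
    (TensorProduct.quotTensorEquivQuotSMul M (RingHom.ker (algebraMap B B'))).symm.trans
      (LinearEquiv.rTensor M e₁.toLinearEquiv)
  have hmem : ∀ m : M, m ∈ RingHom.ker (algebraMap B B') • (⊤ : Submodule B M) ↔ m ∈ I • (⊤ : Submodule A M) := by
    intro m
    rw [hBI, ← Submodule.restrictScalars_mem A, Ideal.smul_restrictScalars, Submodule.restrictScalars_top]
  let τ : M →+ B' ⊗[B] M := E.toAddEquiv.toAddMonoidHom.comp
    (Submodule.mkQ (RingHom.ker (algebraMap B B') • (⊤ : Submodule B M))).toAddMonoidHom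
  have hτ : ∀ (b : B) (m : M), τ (b • m) = algebraMap B B' b • τ m := fun b m => by
    show E (Submodule.Quotient.mk (b • m)) = algebraMap B B' b • E (Submodule.Quotient.mk m)
    rw [Submodule.Quotient.mk_smul, map_smul, algebraMap_smul]
  have hk : ∀ m, τ m = 0 ↔ m ∈ I • (⊤ : Submodule A M) := fun m => by
    show E (Submodule.Quotient.mk m) = 0 ↔ _
    rw [EmbeddingLike.map_eq_zero_iff, Submodule.Quotient.mk_eq_zero, hmem]
  let θ₀ : (M ⧸ I • (⊤ : Submodule A M)) →+ B' ⊗[B] M :=
    QuotientAddGroup.lift (I • (⊤ : Submodule A M)).toAddSubgroup τ fun m hm => (hk m).2 hm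
  have hθ : Function.Bijective θ₀ := by
    refine ⟨(injective_iff_map_eq_zero θ₀).2 fun z hz => ?_, fun z => ?_⟩
    · obtain ⟨m, rfl⟩ := Submodule.Quotient.mk_surjective _ z
      exact (Submodule.Quotient.mk_eq_zero _).2 ((hk m).1 hz)
    · obtain ⟨y, rfl⟩ := E.surjective z
      obtain ⟨m, rfl⟩ := Submodule.Quotient.mk_surjective _ y
      exact ⟨Submodule.Quotient.mk m, rfl⟩
  let e : (A ⧸ I) ≃+* A' := (Ideal.quotEquivOfEq hI.symm).trans (RingHom.quotientKerEquivOfSurjective hσ)
  refine flat_iff_of_ringEquiv e (AddEquiv.ofBijective θ₀ hθ) fun r n => ?_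
  obtain ⟨a, rfl⟩ := Ideal.Quotient.mk_surjective r
  obtain ⟨m, rfl⟩ := Submodule.Quotient.mk_surjective _ n
  show τ (a • m) = σ a • τ m
  rw [hmod, hc, ← hτ, algebraMap_smul]

variable {X Y S : Scheme.{u}} (f : X ⟶ Y) (g : Y ⟶ S)

theorem fiberMap_ι (s : S) : MoreMor.fiberMap f g s ≫ g.fiberι s = (f ≫ g).fiberι s ≫ f :=
  pullback.lift_fst _ _ _

theorem exists_sigma {Z : Scheme.{u}} (s : S) (π : Z ⟶ g.fiber s) (w : Z) (h : Z ⟶ Y) (eq : h = π ≫ g.fiberι s) :
    ∃ σ : Y.presheaf.stalk (h w) →+* (g.fiber s).presheaf.stalk (π w), Function.Surjective σ ∧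
      RingHom.ker σ = (maximalIdeal (S.presheaf.stalk (g (h w)))).map (g.stalkMap (h w)).hom ∧
      ∀ a, π.stalkMap w (σ a) = h.stalkMap w a := by
  subst eq
  refine ⟨((g.fiberι s).stalkMap (π w)).hom, (g.fiberι s).stalkMap_surjective _, FlatDvr.ker_stalkMap_fiberι g _,
    fun a => ?_⟩
  rw [Scheme.Hom.stalkMap_comp]
  rfl

/-- The fibre condition of the criterion is flatness on the fibre schemes. -/
theorem flat_fibreMod_iff (F : X.Modules) (s : S) (w : ↥((f ≫ g).fiber s)) :
    (letI := FlatMod.moduleStalkOver f F ((f ≫ g).fiberι s w)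
     Module.Flat
      (↑(Y.presheaf.stalk (f ((f ≫ g).fiberι s w))) ⧸ Ideal.map (g.stalkMap (f ((f ≫ g).fiberι s w))).hom
        (maximalIdeal ↑(S.presheaf.stalk (g (f ((f ≫ g).fiberι s w))))))
      (↑(F.presheaf.stalk ((f ≫ g).fiberι s w)) ⧸ (Ideal.map (g.stalkMap (f ((f ≫ g).fiberι s w))).hom
        (maximalIdeal ↑(S.presheaf.stalk (g (f ((f ≫ g).fiberι s w))))) •
          (⊤ : Submodule ↑(Y.presheaf.stalk (f ((f ≫ g).fiberι s w))) ↑(F.presheaf.stalk ((f ≫ g).fiberι s w)))))) ↔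
    FlatMod.IsFlatOverAt (MoreMor.fiberMap f g s) ((Scheme.Modules.pullback ((f ≫ g).fiberι s)).obj F) w := by
  let ι := (f ≫ g).fiberι s
  let π := MoreMor.fiberMap f g s
  let x := ι w
  have hex : ∃ σ : Y.presheaf.stalk (f x) →+* (g.fiber s).presheaf.stalk (π w), Function.Surjective σ ∧
      RingHom.ker σ = (maximalIdeal (S.presheaf.stalk (g (f x)))).map (g.stalkMap (f x)).hom ∧
      ∀ a, π.stalkMap w (σ a) = (ι ≫ f).stalkMap w a :=
    exists_sigma g s π w (ι ≫ f) (fiberMap_ι f g s).symm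
  obtain ⟨σ, hσ, hker, hcomp⟩ := hex
  letI := FlatMod.moduleStalkOver f F x
  letI : Algebra ↑(Y.presheaf.stalk (f x)) ↑(X.presheaf.stalk x) := (f.stalkMap x).hom.toAlgebra
  haveI : IsScalarTower ↑(Y.presheaf.stalk (f x)) ↑(X.presheaf.stalk x) ↑(F.presheaf.stalk x) :=
    IsScalarTower.of_algebraMap_smul fun _ _ => rfl
  letI : Algebra ↑(X.presheaf.stalk x) ↑(((f ≫ g).fiber s).presheaf.stalk w) := (ι.stalkMap w).hom.toAlgebra
  let T := ↑(((f ≫ g).fiber s).presheaf.stalk w) ⊗[↑(X.presheaf.stalk x)] ↑(F.presheaf.stalk x)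
  letI : Module ↑((g.fiber s).presheaf.stalk (π w)) T := Module.compHom T (π.stalkMap w).hom
  refine Iff.trans (flat_quot_iff (B := ↑(X.presheaf.stalk x)) (B' := ↑(((f ≫ g).fiber s).presheaf.stalk w))
    (M := ↑(F.presheaf.stalk x)) σ hσ _ hker (ι.stalkMap_surjective w) ?_ (π.stalkMap w).hom ?_ fun _ _ => rfl) ?_
  · rw [show RingHom.ker (algebraMap ↑(X.presheaf.stalk x) ↑(((f ≫ g).fiber s).presheaf.stalk w)) =
      (maximalIdeal (S.presheaf.stalk ((f ≫ g) x))).map ((f ≫ g).stalkMap x).hom from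
        FlatDvr.ker_stalkMap_fiberι (f ≫ g) w]
    rw [show ((f ≫ g).stalkMap x).hom = (f.stalkMap x).hom.comp (g.stalkMap (f x)).hom by
      rw [Scheme.Hom.stalkMap_comp]; rfl]
    exact (Ideal.map_map _ _).symm
  · intro a
    show π.stalkMap w (σ a) = ι.stalkMap w (f.stalkMap x a)
    rw [hcomp, Scheme.Hom.stalkMap_comp]
    rfl
  · let P := (Scheme.Modules.pullback ι).obj F
    let e : P.presheaf.stalk w ≃ₗ[((f ≫ g).fiber s).presheaf.stalk w] T :=
      ((KFlatLib.stalkPullbackIso ι w).app F).toLinearEquiv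
    letI := FlatMod.moduleStalkOver π P w
    exact (flat_iff_of_ringEquiv (RingEquiv.refl _) e.toAddEquiv fun r n => map_smul e (π.stalkMap w r) n).symm

end Groth.Agent.RelFlat
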