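import Groth.Agent.RelFlat.Bridge
import Groth.Agent.FlatModel.FibreScheme
import Groth.Agent.AssLib.FlatField
import Groth.Agent.S0387
import Groth.Agent.S9350
import Groth.Agent.GrFlat5.FlatAtIso
import Groth.Agent.QCoh.FlatOver
import Groth.Agent.AlgSpPts.Sep

/-! The locus of flatness relative to an intermediate scheme, and base change. -/

set_option autoImplicit false
set_option linter.style.haveILetI false
set_option backward.isDefEq.respectTransparency false
set_option backward.isDefEq.respectTransparency.types false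

universe u

open CategoryTheory Limits AlgebraicGeometry IsLocalRing TopologicalSpace
open scoped TensorProduct

namespace Groth.Agent.RelFlat

theorem isFlatOverAt_comp {X Y Z : Scheme.{u}} (q : X ⟶ Y) (g : Y ⟶ Z) (M : X.Modules) (x : X)
    (hg : (g.stalkMap (q x)).hom.Flat) (h : FlatMod.IsFlatOverAt q M x) : FlatMod.IsFlatOverAt (q ≫ g) M x := by
  let C := Z.presheaf.stalk (g (q x))
  let A := Y.presheaf.stalk (q x)
  letI : Algebra C A := (g.stalkMap (q x)).hom.toAlgebra
  letI : Module A (M.presheaf.stalk x) := FlatMod.moduleStalkOver q M x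
  letI : Module C (M.presheaf.stalk x) := FlatMod.moduleStalkOver (q ≫ g) M x
  haveI : IsScalarTower C A (M.presheaf.stalk x) := IsScalarTower.of_algebraMap_smul fun c m => by
    show q.stalkMap x (g.stalkMap (q x) c) • m = (q ≫ g).stalkMap x c • m
    rw [Scheme.Hom.stalkMap_comp]
    rfl
  haveI : Module.Flat C A := hg
  haveI : Module.Flat A (M.presheaf.stalk x) := h
  exact Module.Flat.trans C A (M.presheaf.stalk x)

variable {X Y : Scheme.{u}} (f : X ⟶ Y)

/-- The flat locus of a finitely presented module for a morphism locally of finite presentation is open. -/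
theorem isOpen_flatOverAt [LocallyOfFinitePresentation f] (F : X.Modules) (hq : Coh.IsQCoh F) (hfp : CohB1.IsFP F) :
    IsOpen {x : X | FlatMod.IsFlatOverAt f F x} := by
  refine isOpen_iff_forall_mem_open.2 fun x hx => ?_
  obtain ⟨_, ⟨V, hV : IsAffineOpen V, rfl⟩, hxV, -⟩ :=
    Y.isBasis_affineOpens.exists_subset_of_mem_open (Set.mem_univ (f x)) isOpen_univ
  obtain ⟨_, ⟨U, hU : IsAffineOpen U, rfl⟩, hxU, hle⟩ :=
    X.isBasis_affineOpens.exists_subset_of_mem_open (show x ∈ f ⁻¹ᵁ V from hxV) (f ⁻¹ᵁ V).2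
  letI : Algebra Γ(Y, V) Γ(X, U) := (f.appLE V U hle).hom.toAlgebra
  haveI : Algebra.FinitePresentation Γ(Y, V) Γ(X, U) := f.finitePresentation_appLE hV hU hle
  letI : Module Γ(Y, V) Γ(F, U) := Module.compHom _ (f.appLE V U hle).hom
  haveI : IsScalarTower Γ(Y, V) Γ(X, U) Γ(F, U) := IsScalarTower.of_algebraMap_smul fun _ _ => rfl
  haveI := QCoh.finitePresentation_of_isFP hfp hU
  have hopen := S0387.result (R := Γ(Y, V)) (S := Γ(X, U)) (M := Γ(F, U))
  let O : Set (PrimeSpectrum Γ(X, U)) := {q | Module.Flat Γ(Y, V) (LocalizedModule q.asIdeal.primeCompl Γ(F, U))}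
  have key : ∀ (y : X) (hy : y ∈ U), FlatMod.IsFlatOverAt f F y ↔ hU.primeIdealOf ⟨y, hy⟩ ∈ O := by
    intro y hy
    rw [QCoh.isFlatOverAt_iff f hV hle hy]
    letI := QCoh.stalkModule F hy
    letI : Module Γ(Y, V) (F.presheaf.stalk y) :=
      Module.compHom _ ((f.appLE V U hle) ≫ X.presheaf.germ U y hy).hom
    haveI : IsScalarTower Γ(Y, V) Γ(X, U) (F.presheaf.stalk y) :=
      IsScalarTower.of_algebraMap_smul fun _ _ => rfl
    haveI := QCoh.isLocalizedModule_germLin hq hU hy
    let e := (IsLocalizedModule.iso (hU.primeIdealOf ⟨y, hy⟩).asIdeal.primeCompl (QCoh.germLin F hy)).restrictScalars Γ(Y, V)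
    exact ⟨fun _ => Module.Flat.of_linearEquiv e, fun h => @Module.Flat.of_linearEquiv _ _ _ _ _ _ _ _ h e.symm⟩
  refine ⟨Subtype.val '' ((fun y : U => hU.primeIdealOf y) ⁻¹' O), ?_,
    U.2.isOpenEmbedding_subtypeVal.isOpenMap _ (hopen.preimage (by
      show Continuous fun y : U => hU.isoSpec.hom y
      exact hU.isoSpec.hom.continuous)), ⟨⟨x, hxU⟩, (key x hxU).1 hx, rfl⟩⟩
  rintro _ ⟨⟨y, hy⟩, hyO, rfl⟩
  exact (key y hy).2 hyO

variable {S : Scheme.{u}} (g : Y ⟶ S)

theorem flat_fibreMod_of_flat (F : X.Modules) (x : X) (hf : FlatMod.IsFlatOverAt f F x) :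
    letI := FlatMod.moduleStalkOver f F x
    Module.Flat (↑(Y.presheaf.stalk (f x)) ⧸ Ideal.map (g.stalkMap (f x)).hom (maximalIdeal ↑(S.presheaf.stalk (g (f x)))))
      (↑(F.presheaf.stalk x) ⧸ (Ideal.map (g.stalkMap (f x)).hom (maximalIdeal ↑(S.presheaf.stalk (g (f x)))) •
        (⊤ : Submodule ↑(Y.presheaf.stalk (f x)) ↑(F.presheaf.stalk x)))) := by
  letI := FlatMod.moduleStalkOver f F x
  haveI : Module.Flat ↑(Y.presheaf.stalk (f x)) ↑(F.presheaf.stalk x) := hf
  exact Module.Flat.of_linearEquiv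
    ((TensorProduct.quotTensorEquivQuotSMul ↑(F.presheaf.stalk x)
      (Ideal.map (g.stalkMap (f x)).hom (maximalIdeal ↑(S.presheaf.stalk (g (f x)))))).extendScalarsOfSurjective
        Ideal.Quotient.mk_surjective).symm

variable [LocallyOfFinitePresentation (f ≫ g)] [LocallyOfFiniteType g]

/-- Flatness over the intermediate scheme from flatness on the fibre scheme. -/
theorem isFlatOverAt_of_fibre (F : X.Modules) (hq : Coh.IsQCoh F) (hfp : CohB1.IsFP F)
    (hfl : FlatMod.IsFlatOver (f ≫ g) F) (s : S) (w : ↥((f ≫ g).fiber s))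
    (h : FlatMod.IsFlatOverAt (MoreMor.fiberMap f g s) ((Scheme.Modules.pullback ((f ≫ g).fiberι s)).obj F) w) :
    FlatMod.IsFlatOverAt f F ((f ≫ g).fiberι s w) := by
  rcases subsingleton_or_nontrivial (F.presheaf.stalk ((f ≫ g).fiberι s w)) with hs | hs
  · letI := FlatMod.moduleStalkOver f F ((f ≫ g).fiberι s w)
    show Module.Flat _ _
    infer_instance
  · exact ((FlatModel.fibre_criterion f g F hq hfp _ hs).1 ⟨hfl _, (flat_fibreMod_iff f g F s w).2 h⟩).2

theorem isFlatOverAt_of_baseChange (F : X.Modules) (hq : Coh.IsQCoh F) (hfp : CohB1.IsFP F)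
    (hfl : FlatMod.IsFlatOver (f ≫ g) F) {X' Y' S' : Scheme.{u}} {h : S' ⟶ S} {gY : Y' ⟶ Y} {g' : Y' ⟶ S'}
    (hY : IsPullback gY g' g h) {gX : X' ⟶ X} {f' : X' ⟶ Y'} (hX : IsPullback gX (f' ≫ g') (f ≫ g) h)
    (w : gX ≫ f = f' ≫ gY) (x' : X') (hx' : FlatMod.IsFlatOverAt f' ((Scheme.Modules.pullback gX).obj F) x') :
    FlatMod.IsFlatOverAt f F (gX x') := by
  let s' := (f' ≫ g') x'
  let s := h s'
  let ι' := (f' ≫ g').fiberι s'
  let ι := (f ≫ g).fiberι s
  let w' := (f' ≫ g').asFiber x'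
  have hι' : ι' w' = x' := (f' ≫ g').fiberι_asFiber x'
  let π := MoreMor.fiberMap f g s
  let π' := MoreMor.fiberMap f' g' s'
  let P' := (Scheme.Modules.pullback gX).obj F
  have hπ' : FlatMod.IsFlatOverAt π' ((Scheme.Modules.pullback ι').obj P') w' := by
    refine (flat_fibreMod_iff f' g' P' s' w').1 ?_
    refine flat_fibreMod_of_flat f' g' P' (ι' w') ?_
    rw [hι']
    exact hx'
  let rX : (f' ≫ g').fiber s' ⟶ (f ≫ g).fiber s :=
    pullback.map _ _ _ _ gX (Spec.map (h.residueFieldMap s')) h hX.w.symm (h.SpecMap_residueFieldMap_fromSpecResidueField s').symm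
  let rY : g'.fiber s' ⟶ g.fiber s :=
    pullback.map _ _ _ _ gY (Spec.map (h.residueFieldMap s')) h hY.w.symm (h.SpecMap_residueFieldMap_fromSpecResidueField s').symm
  have hcomm : π' ≫ rY = rX ≫ π := by
    apply pullback.hom_ext
    · show (π' ≫ rY) ≫ g.fiberι s = (rX ≫ π) ≫ g.fiberι s
      have h1 : rY ≫ g.fiberι s = g'.fiberι s' ≫ gY := pullback.lift_fst _ _ _
      have h2 : rX ≫ ι = ι' ≫ gX := pullback.lift_fst _ _ _
      rw [Category.assoc, Category.assoc, h1, fiberMap_ι, ← Category.assoc, fiberMap_ι, reassoc_of% h2,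
        Category.assoc, w]
    · simp [π, π', rX, rY, MoreMor.fiberMap, Scheme.Hom.fiberToSpecResidueField]
  haveI hτ : Flat (Spec.map (h.residueFieldMap s')) := AssLib.flat_over_field (k := S.residueField (h s')) _
  haveI : Flat rX := MorphismProperty.of_isPullback
    (isPullback_fiberToSpecResidueField_of_isPullback hX s').flip hτ
  haveI : Flat rY := MorphismProperty.of_isPullback
    (isPullback_fiberToSpecResidueField_of_isPullback hY s').flip hτ
  have h1 := isFlatOverAt_comp π' rY _ w' (Flat.stalkMap rY _) hπ'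
  rw [hcomm] at h1
  let e : (Scheme.Modules.pullback rX).obj ((Scheme.Modules.pullback ι).obj F) ≅ (Scheme.Modules.pullback ι').obj P' :=
    (Scheme.Modules.pullbackComp rX ι).app F ≪≫
      (Scheme.Modules.pullbackCongr (show rX ≫ ι = ι' ≫ gX from pullback.lift_fst _ _ _)).app F ≪≫
      ((Scheme.Modules.pullbackComp ι' gX).app F).symm
  have h2 := (S9350.flatOverAt_pullback_iff rX π _ w' (Flat.stalkMap rX w')).2
    (GrFlat5.isFlatOverAt_of_iso _ e.symm w' h1)
  have h3 := isFlatOverAt_of_fibre f g F hq hfp hfl s (rX w') h2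
  have hpt : ι (rX w') = gX x' := by
    rw [← hι', ← Scheme.Hom.comp_apply, show rX ≫ ι = ι' ≫ gX from pullback.lift_fst _ _ _, Scheme.Hom.comp_apply]
  exact hpt ▸ h3

end Groth.Agent.RelFlat
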